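import Groth.Agent.Lead.FlatPerfectCx
import Groth.Agent.Lead.RigidDual.FiniteDual
import Groth.Agent.L10.ShriekLoc.EndAffine

/-!
# Tensoring with a shift of the structure sheaf
-/

set_option autoImplicit false
set_option backward.isDefEq.respectTransparency false
set_option backward.isDefEq.respectTransparency.types false

universe u

open CategoryTheory CategoryTheory.Limits AlgebraicGeometry
attribute [local instance] HasDerivedCategory.standard

namespace Groth.Lead.AffLine

open Groth.L00 Groth.L29 Groth.L29.DC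

variable {X : Scheme.{u}}

/-- `- ⊗ O⟦n⟧ ≅ shift by n` -/
theorem nonempty_lt_shift (E : CochainComplex X.Modules ℤ) [DCoh.HasLTensorCx E] (n : ℤ)
    (e : DCoh.toD X E ≅ (DCoh.toD X (RHom.O0 X))⟦n⟧) :
    Nonempty (DCoh.LTensorCx E ≅ shiftFunctor (DCoh.D X) n) := by
  let D : CochainComplex X.Modules ℤ := (RHom.O0 X)⟦n⟧
  haveI := KFlat.hasLTensorCx D
  have hD : DCoh.IsKFlat D :=
    Groth.L00.KFlat.shift (RHom.O0 X) n (isKFlat_of_isStrictlyPerfect (RHom.isStrictlyPerfect_O0 (X := X)))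
  obtain ⟨t⟩ := RHom.nonempty_lt_iso
    (show DCoh.toD X E ≅ DCoh.toD X D from e ≪≫ ((DerivedCategory.Q.commShiftIso n).app (RHom.O0 X)).symm)
  let s : (DCoh.tensorCx (X := X)).flip.obj D ≅
      (DCoh.tensorCx (X := X)).flip.obj (RHom.O0 X) ⋙ shiftFunctor (CochainComplex X.Modules ℤ) n :=
    NatIso.ofComponents (fun A => BC.PFShift.σ A (RHom.O0 X) n)
      (fun a => BC.PFShift.σ_natural a (RHom.O0 X) n)
  exact ⟨t ≪≫ Localization.liftNatIso DerivedCategory.Q
    (HomologicalComplex.quasiIso X.Modules (ComplexShape.up ℤ)) (DerivedCategory.Q ⋙ DCoh.LTensorCx D)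
    (DerivedCategory.Q ⋙ shiftFunctor (DCoh.D X) n) _ _
    (Assoc.allIso D hD ≪≫ Functor.isoWhiskerRight
      (s ≪≫ Functor.isoWhiskerRight RHom.unitCxIso _ ≪≫ Functor.leftUnitor _) _ ≪≫
      DerivedCategory.Q.commShiftIso n)⟩

end Groth.Lead.AffLine
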