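import Groth.Agent.Lead.AffLine.ZeroSection
import Groth.Agent.Lead.AffLine.LTShift
import Groth.Agent.Lead.ClShriek.Adj
import Groth.Agent.Lead.ShriekIndep.Indep
import Groth.Agent.Lead.LTMod
import Groth.Agent.L29.BCAdj.ScalarPush
import Groth.Agent.L29.DCoh.Gen.Loc
import Groth.Agent.L29.DCoh.Gen.QCohTri
import Groth.Agent.L29.DCoh.Cpt.QCoh
import Groth.Agent.L29.RelPC.Module
import Groth.Agent.L10.DerivedAdj
import Groth.Agent.L10.ShriekLoc.Local
import Groth.Agent.L09.LciMor.Basic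
import Groth.Agent.L07.KoszulLCI
import Groth.Agent.L19.PerfectHomCases
import Groth.Agent.L02.CMMor.AffineChart
import Groth.Agent.L10.FMDiag.Basic
import Groth.Prelude.Def_StMod
import Groth.Agent.S1510
import Groth.Agent.S3609
import Groth.Agent.S3676

/-!
# The upper shriek of the zero section of the affine line
-/

set_option autoImplicit false
set_option backward.isDefEq.respectTransparency false
set_option backward.isDefEq.respectTransparency.types false
set_option linter.style.haveILetI false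

universe u

open CategoryTheory CategoryTheory.Limits CategoryTheory.Pretriangulated AlgebraicGeometry
attribute [local instance] HasDerivedCategory.standard

noncomputable section

namespace Groth.Lead.AffLine

open Groth.L00 Groth.L29 Groth.L29.DC

local notation "tt" => DerivedCategory.TStructure.t

variable (X : Scheme.{u})

instance smooth_π : Smooth (π X) := L02.CMMor.smooth_affineSpace _ X

theorem forall_isKoszulAt_σ (x : X) : Synt.IsKoszulAt (σ X) x :=
  Groth.L09.LciMor.lci_cancel (σ X) (π X) (by rw [σ_π]; exact Groth.L09.LciMor.lci_of_smooth _) x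

theorem isLCI_of_affine (U : X.Opens) (V : (A1 X).Opens) (hU : IsAffineOpen U) (hV : IsAffineOpen V)
    (e : U ≤ σ X ⁻¹ᵁ V) :
    letI := ((σ X).appLE V U e).hom.toAlgebra
    LCI.IsLCI Γ(A1 X, V) Γ(X, U) :=
  (Groth.L07.KoszulChart.forall_isLCI_iff (σ X)).2 (forall_isKoszulAt_σ X) U V hU hV e

theorem isLCIMor_σ : Dual3.IsLCIMor (σ X) := fun x => by
  obtain ⟨_, ⟨V, hV, rfl⟩, hxV, -⟩ :=
    ((A1 X).isBasis_affineOpens).exists_subset_of_mem_open (Set.mem_univ ((σ X) x)) isOpen_univ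
  obtain ⟨_, ⟨U, hU, rfl⟩, hxU, hUV⟩ :=
    (X.isBasis_affineOpens).exists_subset_of_mem_open (show x ∈ σ X ⁻¹ᵁ V from hxV) ((σ X) ⁻¹ᵁ V).2
  exact ⟨⟨U, hU⟩, ⟨V, hV⟩, hUV, hxU, isLCI_of_affine X U V hU hV hUV⟩

theorem isPerfectMor_σ : MoreMor.IsPerfectMor (σ X) := fun U V hU hV e => by
  letI := ((σ X).appLE V U e).hom.toAlgebra
  exact Groth.L19.PerfectHom.isPerfectHom_of_isLCI (isLCI_of_affine X U V hU hV e)

set_option maxHeartbeats 2000000 in
/-- `σ^!(O⟦1⟧) ≅ O` -/
theorem nonempty_shift_one [IsNoetherian X] [IsNoetherian (A1 X)] [DCoh.HasRpush (σ X)] (hf : DCoh.RpushPreservesQCoh (σ X))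
    (a : DCoh.DQCoh (A1 X) ⥤ DCoh.DQCoh X) (adj : DCoh.RpushQ (σ X) hf ⊣ a) (O1 : DCoh.DQCoh (A1 X))
    (e1 : O1.obj ≅ (DCoh.inD (A1 X) (Coh.structureModule (A1 X)))⟦(1 : ℤ)⟧) :
    Nonempty ((a.obj O1).obj ≅ DCoh.inD X (Coh.structureModule X)) := by
  haveI := fun {A B : Scheme.{u}} (k : A ⟶ B) => KFlat.hasLpull k
  haveI := fun E : CochainComplex X.Modules ℤ => KFlat.hasLTensorCx E
  let P := A1 X
  let F := Scheme.Modules.pushforward (σ X)
  haveI := Groth.L17.PushQCoh.additive_push (σ X)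
  -- the scalars
  let R : Type u := Γ(P, ⊤)
  letI : P.Over (Spec (CommRingCat.of R)) := ⟨P.toSpecΓ⟩
  letI : X.Over (Spec (CommRingCat.of R)) := ⟨σ X ≫ P.toSpecΓ⟩
  have hsq : σ X ≫ (P ↘ Spec (CommRingCat.of R)) =
      (X ↘ Spec (CommRingCat.of R)) ≫ Spec.map (CommRingCat.ofHom (RingHom.id R)) := by
    rw [show CommRingCat.ofHom (RingHom.id R) = 𝟙 _ from rfl, Spec.map_id, Category.comp_id]
    rfl
  have hg : ∀ r : R, Coh.toGlobal (P ↘ Spec (CommRingCat.of R)) r = r := fun r => by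
    have h : (Scheme.ΓSpecIso (CommRingCat.of R)).inv ≫ P.toSpecΓ.appTop = 𝟙 _ := by
      rw [Scheme.toSpecΓ_appTop]
      exact (Scheme.ΓSpecIso Γ(P, ⊤)).inv_hom_id
    exact ConcreteCategory.congr_hom h r
  let r : R := z X
  have hgX : Coh.toGlobal (X ↘ Spec (CommRingCat.of R)) r = 0 := by
    refine ((?_ : _ = (σ X).appTop (Coh.toGlobal (P ↘ Spec (CommRingCat.of R)) r)).trans ?_)
    · rfl
    · rw [hg]; exact σ_z X
  have hXM : ∀ M : X.Modules, r • 𝟙 M = 0 := fun M => by
    rw [KLin.smul_id]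
    change Formal.smulModΓ M _ = 0
    rw [hgX]
    have h := Groth.L16.Rees.smulMod_zero R M
    rw [Formal.smulMod, map_zero] at h
    exact h
  have hXD : ∀ K : DCoh.D X, r • 𝟙 K = 0 := fun K => by
    have h : r • 𝟙 (DerivedCategory.Q.obj (DerivedCategory.Q.objPreimage K)) = 0 := by
      rw [← CategoryTheory.Functor.map_id, ← Functor.map_smul,
        show r • 𝟙 (DerivedCategory.Q.objPreimage K) = 0 from
          HomologicalComplex.hom_ext _ _ fun i => hXM _, Functor.map_zero]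
    have e := DerivedCategory.Q.objObjPreimageIso K
    rw [show r • 𝟙 K = e.inv ≫ (r • 𝟙 _) ≫ e.hom by
      rw [Linear.smul_comp, Category.id_comp, Linear.comp_smul, e.inv_hom_id], h, zero_comp, comp_zero]
  have kill : ∀ {K : DCoh.D X} {M : DCoh.D P} (v : (DCoh.Rpush (σ X)).obj K ⟶ M), r • v = 0 := fun {K M} v => by
    have h := BCAdj.Rpush_smul (RingHom.id R) (σ X) hsq r (𝟙 K)
    rw [RingHom.id_apply, hXD, CategoryTheory.Functor.map_id] at h
    haveI := RpushColim.additive_Rpush (σ X)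
    rw [Functor.map_zero] at h
    rw [show r • v = (r • 𝟙 _) ≫ v by rw [Linear.smul_comp, Category.id_comp], ← h, zero_comp]
  -- the triangle
  let S := ShortComplex.mk (mz X) (ClSub.unitToPush (σ X)) (mz_unitToPush X)
  have hS : S.ShortExact := shortExact_zeroSection X
  haveI : Mono (mz X) := hS.mono_f
  let T := hS.singleTriangle
  have hT : T ∈ distTriang (DCoh.D P) := hS.singleTriangle_distinguished
  let δ : DCoh.inD P (F.obj (Coh.structureModule X)) ⟶
      (DCoh.inD P (Coh.structureModule P))⟦(1 : ℤ)⟧ := hS.singleδ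
  have hmz : mz X = r • 𝟙 (Coh.structureModule P) := by
    rw [KLin.smul_id]
    change _ = Formal.smulModΓ _ _
    rw [hg]
  have hm : ∀ {W : DCoh.D P} (v : W ⟶ DCoh.inD P (Coh.structureModule P)),
      v ≫ (DerivedCategory.singleFunctor P.Modules 0).map (mz X) = r • v := fun v => by
    rw [hmz, Functor.map_smul, CategoryTheory.Functor.map_id, Linear.comp_smul, Category.comp_id]
  have hm1 : ∀ {W : DCoh.D P} (v : W ⟶ (DCoh.inD P (Coh.structureModule P))⟦(1 : ℤ)⟧),
      v ≫ ((DerivedCategory.singleFunctor P.Modules 0).map (mz X))⟦(1 : ℤ)⟧' = r • v := fun v => by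
    rw [hmz, Functor.map_smul, CategoryTheory.Functor.map_id, Functor.map_smul, CategoryTheory.Functor.map_id,
      Linear.comp_smul, Category.comp_id]
  have fac : ∀ {W : DCoh.D P} (v : W ⟶ (DCoh.inD P (Coh.structureModule P))⟦(1 : ℤ)⟧), r • v = 0 →
      ∃ g : W ⟶ DCoh.inD P (F.obj (Coh.structureModule X)), v = g ≫ δ := fun v hv =>
    T.coyoneda_exact₁ hT v ((hm1 v).trans hv)
  -- the derived direct image
  haveI := Groth.L17.ClosedPush.preservesColimits_push (σ X)
  haveI : PreservesFiniteColimits (Scheme.Modules.pushforward (σ X)) := PreservesColimitsOfSize.preservesFiniteColimits _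
  haveI : PreservesFiniteLimits (Scheme.Modules.pushforward (σ X)) := by
    haveI : (Scheme.Modules.pushforward (σ X)).IsRightAdjoint :=
      (Scheme.Modules.pullbackPushforwardAdjunction (σ X)).isRightAdjoint
    infer_instance
  obtain ⟨pd⟩ := Groth.Lead.ClShriek.nonempty_pushD_iso (σ X)
  let eR : (DerivedCategory.singleFunctor X.Modules 0) ⋙ DCoh.Rpush (σ X) ≅
      F ⋙ DerivedCategory.singleFunctor P.Modules 0 :=
    Functor.isoWhiskerLeft _ pd ≪≫ F.mapDerivedCategorySingleFunctor 0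
  have killN : ∀ (N : X.Modules) {M : DCoh.D P} (v : DCoh.inD P (F.obj N) ⟶ M), r • v = 0 := fun N {M} v => by
    have h := kill ((eR.app N).hom ≫ v)
    rw [← Linear.comp_smul] at h
    exact (cancel_epi (eR.app N).hom).1 (h.trans comp_zero.symm)
  haveI := Groth.L17.ClosedPush.isIso_counit (σ X)
  let ff := (Scheme.Modules.pullbackPushforwardAdjunction (σ X)).fullyFaithfulROfIsIsoCounit
  -- transposes
  let A : DCoh.D X := (a.obj O1).obj
  let Θ : ∀ (K : DCoh.D X), DCoh.IsQCohD K →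
      ((DCoh.Rpush (σ X)).obj K ⟶ O1.obj) ≃ (K ⟶ A) := fun K hK =>
    ((ObjectProperty.fullyFaithfulι _).homEquiv (X := (DCoh.RpushQ (σ X) hf).obj ⟨K, hK⟩) (Y := O1)).symm.trans
      ((adj.homEquiv ⟨K, hK⟩ O1).trans ((ObjectProperty.fullyFaithfulι _).homEquiv (X := ⟨K, hK⟩) (Y := a.obj O1)))
  have hΘ : ∀ {K K' : DCoh.D X} (hK : DCoh.IsQCohD K) (hK' : DCoh.IsQCohD K') (g : K' ⟶ K)
      (v : (DCoh.Rpush (σ X)).obj K ⟶ O1.obj),
      Θ K' hK' ((DCoh.Rpush (σ X)).map g ≫ v) = g ≫ Θ K hK v := fun {K K'} hK hK' g v =>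
    congrArg InducedCategory.Hom.hom (adj.homEquiv_naturality_left
      (ObjectProperty.homMk g : (⟨K', hK'⟩ : DCoh.DQCoh X) ⟶ ⟨K, hK⟩)
      (ObjectProperty.homMk v : (DCoh.RpushQ (σ X) hf).obj ⟨K, hK⟩ ⟶ O1))
  -- `A` is in degrees `≥ 0`
  have hA : DCoh.IsQCohD A := (a.obj O1).property
  haveI hge : DerivedCategory.IsGE A 0 := by
    refine ((tt).isGE_iff_isZero_truncLT_obj 0 A).2 ?_
    let W := ((tt).truncLT 0).obj A
    have hW : DCoh.IsQCohD W := Cpt.isQCohD_truncLT hA 0
    haveI hWle : DerivedCategory.IsLE W (-1) := (tt).isLE_truncLT_obj A 0 (-1) (by omega)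
    let ι₀ : W ⟶ A := ((tt).truncLTι 0).app A
    have h0 : ι₀ = 0 := by
      obtain ⟨v, hv⟩ := (Θ W hW).surjective ι₀
      obtain ⟨g, hg'⟩ := fac (v ≫ e1.hom) (kill _)
      haveI : (((Scheme.Modules.pushforward (σ X)).mapDerivedCategory).obj W).IsLE (-1) :=
        Groth.L10.DerivedAdj.isLE_map (w := Scheme.Modules.pushforward (σ X)) W (-1)
      haveI : DerivedCategory.IsLE ((DCoh.Rpush (σ X)).obj W) (-1) := (tt).isLE_of_iso (pd.app W).symm (-1)
      have hg0 : g = 0 := (tt).zero g (-1) 0 (by omega)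
      rw [← hv, show v = 0 by rw [← cancel_mono e1.hom, hg', hg0, zero_comp, zero_comp],
        show (0 : (DCoh.Rpush (σ X)).obj W ⟶ O1.obj) = (DCoh.Rpush (σ X)).map 0 ≫ 0 from comp_zero.symm,
        hΘ hW hW, zero_comp]
    rw [IsZero.iff_id_eq_zero]
    haveI : (tt).IsLE (((tt).truncLT 0).obj A) (0 - 1) := by rw [zero_sub]; exact hWle
    exact (tt).to_truncLT_obj_ext (n := 0) (show 𝟙 W ≫ ι₀ = 0 ≫ ι₀ by rw [Category.id_comp, zero_comp]; exact h0)
  -- the comparison
  let θ : DCoh.inD X (Coh.structureModule X) ⟶ A :=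
    Θ _ (Groth.Lead.LTMod.isQCohD_inD_of (StMod.isQCoh_structureModule X))
      ((eR.app _).hom ≫ δ ≫ e1.inv)
  have hbij : ∀ N : X.Modules, Coh.IsQCoh N → Function.Bijective fun g : N ⟶ Coh.structureModule X =>
      (DerivedCategory.singleFunctor X.Modules 0).map g ≫ θ := fun N hN => by
    have hNq := Groth.Lead.LTMod.isQCohD_inD_of hN
    have key : ∀ g : N ⟶ Coh.structureModule X, (DerivedCategory.singleFunctor X.Modules 0).map g ≫ θ =
        Θ _ hNq ((eR.app N).hom ≫ ((DerivedCategory.singleFunctor P.Modules 0).map (F.map g) ≫ δ) ≫ e1.inv) :=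
      fun g => by
      rw [← hΘ]
      refine congrArg (Θ _ hNq) ?_
      have hn : (DCoh.Rpush (σ X)).map ((DerivedCategory.singleFunctor X.Modules 0).map g) ≫ (eR.app _).hom =
          (eR.app N).hom ≫ (DerivedCategory.singleFunctor P.Modules 0).map (F.map g) := eR.hom.naturality g
      rw [← Category.assoc, hn]
      simp only [Category.assoc]
    simp only [key]
    refine (Θ _ hNq).bijective.comp ⟨fun g g' h => ?_, fun v => ?_⟩
    · have h1 := (cancel_epi (eR.app N).hom).1 h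
      have h2 := (cancel_mono e1.inv).1 h1
      rw [← sub_eq_zero, ← Preadditive.sub_comp, ← Functor.map_sub, ← Functor.map_sub] at h2
      obtain ⟨k, hk⟩ := T.coyoneda_exact₃ hT _ h2
      obtain ⟨k', rfl⟩ := (DerivedCategory.singleFunctor P.Modules 0).map_surjective k
      have hk0 : k' = 0 := by
        rw [← cancel_mono (mz X), zero_comp]
        refine (DerivedCategory.singleFunctor P.Modules 0).map_injective ?_
        rw [Functor.map_comp, Functor.map_zero, hm]
        exact killN N _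
      rw [hk0, Functor.map_zero, zero_comp] at hk
      have h3 : F.map (g - g') = 0 :=
        (DerivedCategory.singleFunctor P.Modules 0).map_injective (hk.trans (Functor.map_zero _ _ _).symm)
      exact sub_eq_zero.1 (ff.map_injective (h3.trans (Functor.map_zero _ _ _).symm))
    · obtain ⟨g, hg'⟩ := fac ((eR.app N).inv ≫ v ≫ e1.hom) (killN N _)
      obtain ⟨g₀, rfl⟩ := (DerivedCategory.singleFunctor P.Modules 0).map_surjective g
      refine ⟨ff.preimage g₀, ?_⟩
      change (eR.app N).hom ≫ ((DerivedCategory.singleFunctor P.Modules 0).map (F.map (ff.preimage g₀)) ≫ δ) ≫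
        e1.inv = v
      rw [ff.map_preimage, ← hg']
      simp
  -- `H⁰ A ≅ O`
  let W := ((tt).truncLT 1).obj A
  haveI hWle : DerivedCategory.IsLE W 0 := (tt).isLE_truncLT_obj A 1 0 (by omega)
  haveI hWge : DerivedCategory.IsGE W 0 := inferInstanceAs ((tt).IsGE (((tt).truncLT 1).obj A) 0)
  obtain ⟨H, ⟨eH⟩⟩ := DerivedCategory.exists_iso_singleFunctor_obj_of_isGE_of_isLE W 0
  have hH : Coh.IsQCoh H :=
    isQCoh_of_iso' ((DerivedCategory.homologyFunctor _ 0).mapIso eH ≪≫
      (DerivedCategory.singleFunctorCompHomologyFunctorIso X.Modules 0).app H) (Cpt.isQCohD_truncLT hA 1 0)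
  let ι₁ : DCoh.inD X H ⟶ A := eH.inv ≫ ((tt).truncLTι 1).app A
  haveI : (tt).IsLE (DCoh.inD X (Coh.structureModule X)) 0 := inferInstanceAs (DerivedCategory.IsLE _ _)
  let w' := (tt).liftTruncLT θ 0 1 (by omega)
  have hw' : w' ≫ ((tt).truncLTι 1).app A = θ := (tt).liftTruncLT_ι θ 0 1 (by omega)
  obtain ⟨w, hw⟩ := (DerivedCategory.singleFunctor X.Modules 0).map_surjective (w' ≫ eH.hom)
  have hθ : θ = (DerivedCategory.singleFunctor X.Modules 0).map w ≫ ι₁ := by
    rw [hw, ← hw']; simp [ι₁]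
  have hι : ∀ (N : X.Modules) (u v : N ⟶ H), (DerivedCategory.singleFunctor X.Modules 0).map u ≫ ι₁ =
      (DerivedCategory.singleFunctor X.Modules 0).map v ≫ ι₁ → u = v := fun N u v h => by
    refine (DerivedCategory.singleFunctor X.Modules 0).map_injective ((cancel_mono eH.inv).1 ?_)
    haveI : (tt).IsLE ((DerivedCategory.singleFunctor X.Modules 0).obj N) 0 :=
      inferInstanceAs (DerivedCategory.IsLE _ _)
    haveI : (tt).IsLE ((DerivedCategory.singleFunctor X.Modules 0).obj N) (1 - 1) := by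
      rw [sub_self]; exact this
    exact (tt).to_truncLT_obj_ext (n := 1) (by simpa [ι₁] using h)
  obtain ⟨s, hs⟩ := (hbij H hH).2 ι₁
  have hsw : s ≫ w = 𝟙 H := hι H _ _ (by
    simp only [hθ] at hs
    rw [Functor.map_comp, Category.assoc, CategoryTheory.Functor.map_id, Category.id_comp]; exact hs)
  have hws : w ≫ s = 𝟙 _ := (hbij _ (StMod.isQCoh_structureModule X)).1 (by
    simp only [hθ, Functor.map_comp, Category.assoc, CategoryTheory.Functor.map_id, Category.id_comp]
    rw [← Category.assoc ((DerivedCategory.singleFunctor X.Modules 0).map s),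
      ← Functor.map_comp, hsw, CategoryTheory.Functor.map_id, Category.id_comp])
  let eW : W ≅ DCoh.inD X (Coh.structureModule X) :=
    eH ≪≫ (DerivedCategory.singleFunctor X.Modules 0).mapIso ⟨s, w, hsw, hws⟩
  -- invertibility
  let O : DCoh.DQCoh P :=
    ⟨DCoh.inD P (Coh.structureModule P), Groth.Lead.LTMod.isQCohD_inD_of (StMod.isQCoh_structureModule P)⟩
  let c : DEt.Compactification (σ X) := ⟨X, 𝟙 X, σ X, inferInstance, inferInstance, Category.id_comp _⟩
  haveI : Dual3.IsSepFT (𝟙 P) := ⟨inferInstance, inferInstance, inferInstance⟩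
  haveI : Dual3.IsSepFT (σ X) := ⟨inferInstance, inferInstance, inferInstance⟩
  have hinv := Groth.Agent.S3609.result P X P (σ X) (𝟙 P) (σ X) (Category.comp_id _) (isLCIMor_σ X) c hf a adj O
    ⟨Iso.refl _⟩
  let E := DerivedCategory.Q.objPreimage (a.obj O).obj
  obtain ⟨b⟩ := Groth.Agent.S3676.result X P (σ X) (isPerfectMor_σ X) hf a adj O ⟨Iso.refl _⟩ E
    ⟨DerivedCategory.Q.objObjPreimageIso _⟩
  obtain ⟨p⟩ := Groth.L10.ShriekLoc.nonempty_Lpull_OD_shift (σ X) 1
  obtain ⟨q⟩ := Groth.L10.ShriekLoc.nonempty_LTensor_OD_shift E 1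
  let eA : A ≅ ((a.obj O).obj)⟦(1 : ℤ)⟧ :=
    b.app O1 ≪≫ (DCoh.LTensorCx E).mapIso ((DCoh.Lpull (σ X)).mapIso e1 ≪≫ p) ≪≫ q ≪≫
      (shiftFunctor _ 1).mapIso (DerivedCategory.Q.objObjPreimageIso _)
  obtain ⟨lid⟩ := Groth.Lead.ShriekIndep.nonempty_Lpull_restrictD (𝟙 X)
  obtain ⟨li⟩ := Groth.L10.FMDiag.nonempty_Lpull_id (X := X)
  let eO : (Dual3.shriekC c a).obj O ≅ (a.obj O).obj := (lid.symm ≪≫ li).app (a.obj O).obj
  -- `A` is in degrees `≤ 0`
  have hle : DerivedCategory.IsLE A 0 := by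
    refine (DerivedCategory.isLE_iff A 0).2 fun i hi =>
      Groth.L21.Mod.isZero_of_restrict (fun y : X => ((hinv y).choose).ι)
        (fun y => ⟨y, ⟨y, (hinv y).choose_spec.choose_spec.1⟩, rfl⟩) _ fun y => ?_
    obtain ⟨-, ⟨t⟩⟩ := (hinv y).choose_spec.choose_spec
    let U := (hinv y).choose
    let n := (hinv y).choose_spec.choose
    have hyU : y ∈ U := (hinv y).choose_spec.choose_spec.1
    let eU : (DCoh.restrictD U.ι).obj A ≅ (DCoh.inD (U : Scheme.{u}) (Coh.structureModule _))⟦n + 1⟧ :=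
      (DCoh.restrictD U.ι).mapIso (eA ≪≫ (shiftFunctor _ 1).mapIso eO.symm) ≪≫
        ((DCoh.restrictD U.ι).commShiftIso 1).app _ ≪≫ (shiftFunctor _ 1).mapIso t ≪≫
        ((shiftFunctorAdd (DCoh.D (U : Scheme.{u})) n 1).app _).symm
    have hz : ∀ j : ℤ, j ≠ -(n + 1) → IsZero (DCoh.HD ((DCoh.restrictD U.ι).obj A) j) := fun j hj => by
      let e := ((DerivedCategory.homologyFunctor (U : Scheme.{u}).Modules 0).shiftIso (n + 1) j (n + 1 + j) rfl).app
        (DCoh.inD (U : Scheme.{u}) (Coh.structureModule _))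
      exact (RelPC.isZero_HD_inD (show n + 1 + j ≠ 0 by omega)).of_iso
        ((DerivedCategory.homologyFunctor _ j).mapIso eU ≪≫ e)
    have hn : n + 1 = 0 := by
      by_contra hne
      have h0 := hz 0 (by omega)
      have eH0 : DCoh.HD A 0 ≅ Coh.structureModule X := by
        haveI : IsIso ((DerivedCategory.homologyFunctor X.Modules 0).map (((tt).truncLTι 1).app A)) :=
          Groth.L10.isIso_H_ι 1 0 (by omega) A
        exact (asIso ((DerivedCategory.homologyFunctor X.Modules 0).map (((tt).truncLTι 1).app A))).symm ≪≫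
          (DerivedCategory.homologyFunctor X.Modules 0).mapIso eW ≪≫
          (DerivedCategory.singleFunctorCompHomologyFunctorIso X.Modules 0).app _
      have h1 : IsZero ((Scheme.Modules.restrictFunctor U.ι).obj (Coh.structureModule X)) :=
        h0.of_iso ((Scheme.Modules.restrictFunctor U.ι).mapIso eH0.symm ≪≫ (HDResIso U.ι A 0).symm)
      have h2 : IsZero (Coh.structureModule (U : Scheme.{u})) := h1.of_iso (Scheme.Modules.restrictUnitIso U.ι).symm
      have h3 : (1 : Γ((U : Scheme.{u}), ⊤)) = 0 := by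
        have h4 := congrArg (fun g : Coh.structureModule (U : Scheme.{u}) ⟶ _ => g.app ⊤ (1 : Γ((U : Scheme.{u}), ⊤)))
          (h2.eq_of_src (𝟙 (Coh.structureModule (U : Scheme.{u}))) 0)
        exact h4
      have h5 := congrArg ((U : Scheme.{u}).presheaf.germ ⊤ ⟨y, hyU⟩ trivial) h3
      rw [map_one, map_zero] at h5
      exact one_ne_zero h5
    exact (hz i (by omega)).of_iso (HDResIso U.ι A i).symm
  haveI : IsIso (((tt).truncLTι 1).app A) := ((tt).isLE_iff_isIso_truncLTι_app 0 1 rfl A).1 hle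
  exact ⟨(asIso (((tt).truncLTι 1).app A)).symm ≪≫ eW⟩

end Groth.Lead.AffLine
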