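import Groth.Agent.Lead.AffLine.ZeroSection

/-!
# The self-product of the affine line as an affine line over itself
-/

set_option autoImplicit false
set_option backward.isDefEq.respectTransparency.types false

universe u

open CategoryTheory CategoryTheory.Limits AlgebraicGeometry

noncomputable section

namespace Groth.Lead.AffLine

variable (Y : Scheme.{u})

/-- the translation by the coordinate, with a sign -/
def tr (ε : Γ(A1 (A1 Y), ⊤) → Γ(A1 (A1 Y), ⊤)) : A1 (A1 Y) ⟶ A1 (A1 Y) :=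
  AffineSpace.homOfVector (π (A1 Y)) fun i =>
    AffineSpace.coord (A1 Y) i + ε ((π (A1 Y)).appTop (AffineSpace.coord Y i))

theorem tr_π (ε : Γ(A1 (A1 Y), ⊤) → Γ(A1 (A1 Y), ⊤)) : tr Y ε ≫ π (A1 Y) = π (A1 Y) :=
  AffineSpace.homOfVector_over _ _

theorem tr_coord (ε : Γ(A1 (A1 Y), ⊤) → Γ(A1 (A1 Y), ⊤)) (i : I1.{u}) :
    (tr Y ε).appTop (AffineSpace.coord (A1 Y) i) =
      AffineSpace.coord (A1 Y) i + ε ((π (A1 Y)).appTop (AffineSpace.coord Y i)) :=
  AffineSpace.homOfVector_appTop_coord _ _ _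

theorem tr_fix (ε : Γ(A1 (A1 Y), ⊤) → Γ(A1 (A1 Y), ⊤)) (r : Γ(A1 Y, ⊤)) :
    (tr Y ε).appTop ((π (A1 Y)).appTop r) = (π (A1 Y)).appTop r := by
  have h : (π (A1 Y)).appTop ≫ (tr Y ε).appTop = (π (A1 Y)).appTop := by
    rw [← Scheme.Hom.comp_appTop, tr_π]
  exact ConcreteCategory.congr_hom h r

/-- translation as an automorphism -/
def τ : A1 (A1 Y) ≅ A1 (A1 Y) where
  hom := tr Y id
  inv := tr Y Neg.neg
  hom_inv_id := by
    refine AffineSpace.hom_ext (by rw [Category.assoc, tr_π, tr_π, Category.id_comp]) fun i => ?_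
    rw [Scheme.Hom.comp_appTop, CommRingCat.comp_apply, tr_coord, map_add, tr_coord, map_neg, tr_fix]
    simp
  inv_hom_id := by
    refine AffineSpace.hom_ext (by rw [Category.assoc, tr_π, tr_π, Category.id_comp]) fun i => ?_
    rw [Scheme.Hom.comp_appTop, CommRingCat.comp_apply, tr_coord, map_add, tr_coord, id_eq, tr_fix]
    simp

/-- the second projection -/
def p₂ : A1 (A1 Y) ⟶ A1 Y := tr Y id ≫ AffineSpace.map I1.{u} (π Y)

theorem isPullback_p₂ : IsPullback (π (A1 Y)) (p₂ Y) (π Y) (π Y) := by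
  refine (IsPullback.of_iso (AffineSpace.isPullback_map (n := I1.{u}) (π Y)) (τ Y).symm (Iso.refl _) (Iso.refl _) (Iso.refl _)
    ?_ ?_ (by simp) (by simp)).flip
  · change AffineSpace.map I1.{u} (π Y) ≫ 𝟙 _ = (τ Y).inv ≫ (tr Y id ≫ AffineSpace.map I1.{u} (π Y))
    rw [Category.comp_id]
    exact ((τ Y).inv_hom_id_assoc _).symm
  · change π (A1 Y) ≫ 𝟙 _ = (τ Y).inv ≫ π (A1 Y)
    rw [Category.comp_id]
    exact (tr_π Y _).symm

theorem σ_p₂ : σ (A1 Y) ≫ p₂ Y = 𝟙 _ := by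
  have hσ : ∀ r : Γ(A1 Y, ⊤), (σ (A1 Y)).appTop ((π (A1 Y)).appTop r) = r := fun r => by
    have h : (π (A1 Y)).appTop ≫ (σ (A1 Y)).appTop = 𝟙 _ := by
      rw [← Scheme.Hom.comp_appTop, σ_π, Scheme.Hom.id_appTop]
    exact ConcreteCategory.congr_hom h r
  refine AffineSpace.hom_ext ?_ fun i => ?_
  · rw [Category.assoc, p₂, Category.assoc, AffineSpace.map_over, ← Category.assoc (tr Y id), tr_π,
      ← Category.assoc, σ_π]
  · rw [Scheme.Hom.comp_appTop, CommRingCat.comp_apply, p₂, Scheme.Hom.comp_appTop, CommRingCat.comp_apply,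
      AffineSpace.map_appTop_coord, tr_coord, map_add, id_eq, hσ,
      show (σ (A1 Y)).appTop (AffineSpace.coord (A1 Y) i) = 0 from AffineSpace.homOfVector_appTop_coord _ _ _]
    simp

end Groth.Lead.AffLine
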