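import Mathlib.AlgebraicGeometry.AffineSpace
import Groth.Agent.L00.KLimp.Detect
import Groth.Agent.L12.VBLift.Small
import Groth.Agent.L16.Rees.SmulMod

/-!
# The zero section of the affine line is cut out by the coordinate
-/

set_option autoImplicit false
set_option backward.isDefEq.respectTransparency.types false
set_option linter.style.haveILetI false

universe u

open CategoryTheory CategoryTheory.Limits AlgebraicGeometry Opposite TopologicalSpace
open MvPolynomial (C eval₂Hom)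

noncomputable section

namespace Groth.Lead.AffLine

/-- the index type of the affine line -/
abbrev I1 : Type u := ULift.{u} (Fin 1)

variable (X : Scheme.{u})

abbrev A1 : Scheme.{u} := AffineSpace I1.{u} X

abbrev π : A1 X ⟶ X := A1 X ↘ X

abbrev z : Γ(A1 X, ⊤) := AffineSpace.coord X (ULift.up (0 : Fin 1))

/-- the zero section -/
def σ : X ⟶ A1 X := AffineSpace.homOfVector (𝟙 X) (fun _ => 0)

theorem σ_π : σ X ≫ π X = 𝟙 X := AffineSpace.homOfVector_over _ _

theorem σ_z : (σ X).appTop (z X) = 0 := AffineSpace.homOfVector_appTop_coord _ _ _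

instance isClosedImmersion_σ : IsClosedImmersion (σ X) := by
  haveI : IsClosedImmersion (σ X ≫ π X) := by rw [σ_π]; infer_instance
  exact IsClosedImmersion.of_comp (σ X) (π X)

theorem bijective_eval (S : Scheme.{u}) [IsAffine S] :
    Function.Bijective (eval₂Hom ((π S).appTop).hom (AffineSpace.coord (n := I1.{u}) S)) := by
  haveI : IsIso (AffineSpace.isoOfIsAffine I1.{u} S).hom.appTop :=
    inferInstanceAs (IsIso ((AffineSpace.isoOfIsAffine I1.{u} S).hom.app ⊤))
  have h := ConcreteCategory.bijective_of_isIso (AffineSpace.isoOfIsAffine I1.{u} S).hom.appTop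
  rw [AffineSpace.isoOfIsAffine_hom_appTop] at h
  change Function.Bijective ((eval₂Hom ((π S).appTop).hom (AffineSpace.coord (n := I1.{u}) S)) ∘
    (Scheme.ΓSpecIso (CommRingCat.of (MvPolynomial I1.{u} Γ(S, ⊤)))).hom.hom) at h
  exact (Function.Bijective.of_comp_iff _
    (ConcreteCategory.bijective_of_isIso (Scheme.ΓSpecIso _).hom)).1 h

/-- polynomials to sections over the preimage of an open -/
def φ (U : X.Opens) : MvPolynomial I1.{u} Γ(X, U) →+* Γ(A1 X, π X ⁻¹ᵁ U) :=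
  eval₂Hom ((π X).app U).hom fun i =>
    (A1 X).presheaf.map (homOfLE (le_top : π X ⁻¹ᵁ U ≤ ⊤)).op (AffineSpace.coord X i)

theorem bijective_φ {U : X.Opens} (hU : IsAffineOpen U) : Function.Bijective (φ X U) := by
  haveI : IsAffine (U : Scheme.{u}) := hU
  let j : A1 (U : Scheme.{u}) ⟶ A1 X := AffineSpace.map I1.{u} U.ι
  have hsq : IsPullback j (π (U : Scheme.{u})) (π X) U.ι := AffineSpace.isPullback_map U.ι
  haveI : IsOpenImmersion j := MorphismProperty.of_isPullback hsq.flip inferInstance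
  have hr : j.opensRange = π X ⁻¹ᵁ U := by
    refine Opens.ext ?_
    rw [Scheme.Hom.coe_opensRange, show Set.range j = (π X) ⁻¹' Set.range U.ι by
      have hi : j = hsq.isoPullback.hom ≫ pullback.fst (π X) U.ι := hsq.isoPullback_hom_fst.symm
      rw [hi, ← Scheme.Pullback.range_fst (π X) U.ι, Scheme.Hom.comp_base, TopCat.coe_comp,
        Set.range_comp, hsq.isoPullback.hom.surjective.range_eq, Set.image_univ]]
    simp
  have hle : ⊤ ≤ j ⁻¹ᵁ (π X ⁻¹ᵁ U) := by rw [← hr, j.preimage_opensRange]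
  let ψ := j.appLE (π X ⁻¹ᵁ U) ⊤ hle
  have hψ : Function.Bijective ψ := by
    haveI : IsIso ψ := by
      have : IsIso (j.app (π X ⁻¹ᵁ U)) := j.isIso_app _ hr.ge
      have he : (⊤ : (A1 (U : Scheme.{u})).Opens) = j ⁻¹ᵁ (π X ⁻¹ᵁ U) := top_le_iff.1 hle |>.symm
      have : IsIso ((A1 (U : Scheme.{u})).presheaf.map (homOfLE hle).op) := by
        rw [Subsingleton.elim (homOfLE hle) (eqToHom he)]; infer_instance
      exact IsIso.comp_isIso
    exact ConcreteCategory.bijective_of_isIso ψ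
  have he : ψ.hom.comp (φ X U) = (eval₂Hom ((π (U : Scheme.{u})).appTop).hom
      (AffineSpace.coord (n := I1.{u}) (U : Scheme.{u}))).comp
      (MvPolynomial.map U.topIso.inv.hom) := by
    refine MvPolynomial.ringHom_ext (fun r => ?_) fun i => ?_
    · simp only [RingHom.comp_apply, φ, MvPolynomial.eval₂Hom_C, MvPolynomial.map_C]
      have h1 : (π X).app U ≫ ψ = U.topIso.inv ≫ (π (U : Scheme.{u})).appTop := by
        rw [show ψ = j.appLE (π X ⁻¹ᵁ U) ⊤ hle from rfl, Scheme.Hom.app_eq_appLE,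
          Scheme.Hom.appLE_comp_appLE]
        simp only [hsq.w]
        rw [← Scheme.Hom.appLE_comp_appLE (π (U : Scheme.{u})) U.ι U ⊤ ⊤ (by simp) (by simp)]
        congr 1
        · simp [Scheme.Opens.ι_appLE, eqToHom_op]
          rfl
        · exact (Scheme.Hom.app_eq_appLE (f := π (U : Scheme.{u}))).symm
      exact ConcreteCategory.congr_hom h1 r
    · simp only [RingHom.comp_apply, φ, MvPolynomial.eval₂Hom_X', MvPolynomial.map_X]
      refine Eq.trans ?_ (AffineSpace.map_appTop_coord U.ι i)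
      have h1 : (A1 X).presheaf.map (homOfLE (le_top : π X ⁻¹ᵁ U ≤ ⊤)).op ≫ ψ = j.appTop := by
        rw [show ψ = j.appLE (π X ⁻¹ᵁ U) ⊤ hle from rfl, Scheme.Hom.map_appLE]
        exact (Scheme.Hom.app_eq_appLE (f := j)).symm
      exact ConcreteCategory.congr_hom h1 _
  refine (Function.Bijective.of_comp_iff' hψ _).1 ?_
  change Function.Bijective (ψ.hom.comp (φ X U))
  rw [he]
  refine (bijective_eval _).comp ?_
  exact (MvPolynomial.mapEquiv _ U.topIso.symm.commRingCatIsoToRingEquiv).bijective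

theorem le_preimage (U : X.Opens) : U ≤ σ X ⁻¹ᵁ (π X ⁻¹ᵁ U) := by
  rw [← Scheme.Hom.comp_preimage, σ_π]; rfl

theorem preimage_preimage (U : X.Opens) : σ X ⁻¹ᵁ (π X ⁻¹ᵁ U) = U := by
  rw [← Scheme.Hom.comp_preimage, σ_π]; rfl

theorem σ_φ (U : X.Opens) :
    ((σ X).appLE (π X ⁻¹ᵁ U) U (le_preimage X U)).hom.comp (φ X U) = MvPolynomial.constantCoeff := by
  refine MvPolynomial.ringHom_ext (fun r => ?_) fun i => ?_
  · simp only [RingHom.comp_apply, φ, MvPolynomial.eval₂Hom_C, MvPolynomial.constantCoeff_C]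
    have h1 : (π X).app U ≫ (σ X).appLE (π X ⁻¹ᵁ U) U (le_preimage X U) = 𝟙 _ := by
      rw [Scheme.Hom.app_eq_appLE, Scheme.Hom.appLE_comp_appLE]
      simp only [σ_π]
      simp [Scheme.Hom.appLE]
      exact X.presheaf.map_id _
    exact ConcreteCategory.congr_hom h1 r
  · simp only [RingHom.comp_apply, φ, MvPolynomial.eval₂Hom_X', MvPolynomial.constantCoeff_X]
    have h1 : (A1 X).presheaf.map (homOfLE (le_top : π X ⁻¹ᵁ U ≤ ⊤)).op ≫
        (σ X).appLE (π X ⁻¹ᵁ U) U (le_preimage X U) =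
          (σ X).appTop ≫ X.presheaf.map (homOfLE (le_top : U ≤ ⊤)).op := by
      rw [Scheme.Hom.map_appLE]
      change (σ X).appLE ⊤ U _ = (σ X).app ⊤ ≫ X.presheaf.map _
      rw [Scheme.Hom.app_eq_appLE]
      exact (Scheme.Hom.appLE_map (σ X) _ (homOfLE (le_top : U ≤ σ X ⁻¹ᵁ ⊤)).op).symm
    refine (ConcreteCategory.congr_hom h1 _).trans ?_
    change X.presheaf.map _ ((σ X).appTop (AffineSpace.coord X i)) = 0
    rw [show (σ X).appTop (AffineSpace.coord X i) = 0 from AffineSpace.homOfVector_appTop_coord _ _ _, map_zero]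

/-- the coordinate on the preimage of an open -/
abbrev zU (U : X.Opens) : Γ(A1 X, π X ⁻¹ᵁ U) :=
  (A1 X).presheaf.map (homOfLE (le_top : π X ⁻¹ᵁ U ≤ ⊤)).op (z X)

theorem exists_eq_mul {U : X.Opens} (hU : IsAffineOpen U) (s : Γ(A1 X, π X ⁻¹ᵁ U))
    (hs : (σ X).appLE (π X ⁻¹ᵁ U) U (le_preimage X U) s = 0) : ∃ t, s = zU X U * t := by
  obtain ⟨p, rfl⟩ := (bijective_φ X hU).2 s
  have hp : MvPolynomial.constantCoeff p = 0 := (RingHom.congr_fun (σ_φ X U) p).symm.trans hs
  obtain ⟨q, rfl⟩ : MvPolynomial.X (ULift.up (0 : Fin 1)) ∣ p := by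
    rw [MvPolynomial.X_dvd_iff_modMonomial_eq_zero]
    ext m
    by_cases hm : Finsupp.single (ULift.up (0 : Fin 1)) 1 ≤ m
    · rw [MvPolynomial.coeff_modMonomial_of_le _ hm, MvPolynomial.coeff_zero]
    · rw [MvPolynomial.coeff_modMonomial_of_not_le _ hm, MvPolynomial.coeff_zero]
      have hm0 : m = 0 := by
        refine Finsupp.ext fun i => ?_
        rw [Subsingleton.elim i (ULift.up (0 : Fin 1))]
        by_contra h
        exact hm (Finsupp.single_le_iff.2 (Nat.one_le_iff_ne_zero.2 h))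
      rw [hm0]
      exact hp
  exact ⟨φ X U q, by rw [map_mul, φ, MvPolynomial.eval₂Hom_X']⟩

theorem zU_mul_eq_zero {U : X.Opens} (hU : IsAffineOpen U) (s : Γ(A1 X, π X ⁻¹ᵁ U))
    (hs : zU X U * s = 0) : s = 0 := by
  obtain ⟨p, rfl⟩ := (bijective_φ X hU).2 s
  have h : φ X U (MvPolynomial.X (ULift.up (0 : Fin 1)) * p) = φ X U 0 := by
    rw [map_mul, map_zero, φ, MvPolynomial.eval₂Hom_X']; exact hs
  have h' := (bijective_φ X hU).1 h
  rw [show p = 0 from MvPolynomial.ext _ _ fun m => by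
    have := congrArg (MvPolynomial.coeff (m + Finsupp.single (ULift.up (0 : Fin 1)) 1)) h'
    rw [mul_comm, MvPolynomial.coeff_mul_X, MvPolynomial.coeff_zero] at this
    rw [this, MvPolynomial.coeff_zero], map_zero]

theorem isAffineOpen_preimage {U : X.Opens} (hU : IsAffineOpen U) : IsAffineOpen (π X ⁻¹ᵁ U) :=
  hU.preimage (π X)

/-- basic opens of preimages of affine opens -/
def basisSet : Set (A1 X).Opens :=
  {D | ∃ (U : X.Opens) (_ : IsAffineOpen U) (g : Γ(A1 X, π X ⁻¹ᵁ U)), D = (A1 X).basicOpen g}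

theorem isBasis_basisSet : Opens.IsBasis (basisSet X) := by
  refine Opens.isBasis_iff_nbhd.2 fun {O x} hx => ?_
  obtain ⟨_, ⟨U, hU, rfl⟩, hxU, -⟩ :=
    X.isBasis_affineOpens.exists_subset_of_mem_open (Set.mem_univ ((π X) x)) isOpen_univ
  obtain ⟨g, hg, hxg⟩ := (isAffineOpen_preimage X hU).exists_basicOpen_le ⟨x, hx⟩ (show x ∈ π X ⁻¹ᵁ U from hxU)
  exact ⟨_, ⟨U, hU, g, rfl⟩, hxg, hg⟩

theorem exists_eq_mul_basic {D : (A1 X).Opens} (hD : D ∈ basisSet X) (s : Γ(A1 X, D))
    (hs : (σ X).app D s = 0) : ∃ t, (A1 X).presheaf.map (homOfLE (le_top : D ≤ ⊤)).op (z X) * t = s := by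
  obtain ⟨U, hU, g, rfl⟩ := hD
  have hW := isAffineOpen_preimage X hU
  haveI := hW.isLocalization_basicOpen g
  obtain ⟨⟨s', ⟨_, k, rfl⟩⟩, he⟩ := IsLocalization.surj (Submonoid.powers g) s
  let σU := (σ X).appLE (π X ⁻¹ᵁ U) U (le_preimage X U)
  have hpre : σ X ⁻¹ᵁ (A1 X).basicOpen g = X.basicOpen (σU g) := by
    rw [Scheme.basicOpen_appLE, Scheme.preimage_basicOpen]
    exact (inf_eq_right.2 ((X.basicOpen_le _).trans (preimage_preimage X U).le)).symm
  have hσ : ∀ r, X.presheaf.map (homOfLE (X.basicOpen_le (σU g))).op (σU r) =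
      X.presheaf.map (eqToHom hpre.symm).op
        ((σ X).app ((A1 X).basicOpen g) (algebraMap Γ(A1 X, π X ⁻¹ᵁ U) Γ(A1 X, (A1 X).basicOpen g) r)) := fun r => by
    have h : σU ≫ X.presheaf.map (homOfLE (X.basicOpen_le (σU g))).op =
        (A1 X).presheaf.map (homOfLE ((A1 X).basicOpen_le g)).op ≫ (σ X).app ((A1 X).basicOpen g) ≫
          X.presheaf.map (eqToHom hpre.symm).op := by
      rw [Scheme.Hom.appLE_map, Scheme.Hom.app_eq_appLE, Scheme.Hom.appLE_map, Scheme.Hom.map_appLE]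
    exact ConcreteCategory.congr_hom h r
  haveI : IsLocalization.Away (σU g) Γ(X, X.basicOpen (σU g)) := hU.isLocalization_basicOpen _
  have h0 : algebraMap Γ(X, U) Γ(X, X.basicOpen (σU g)) (σU s') = 0 := by
    change X.presheaf.map (homOfLE (X.basicOpen_le (σU g))).op (σU s') = 0
    rw [hσ, ← show s * algebraMap _ _ (g ^ k) = algebraMap _ _ s' from he, map_mul, hs, zero_mul, map_zero]
  obtain ⟨⟨_, m, rfl⟩, hm⟩ := (IsLocalization.map_eq_zero_iff (Submonoid.powers (σU g)) _ _).1 h0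
  obtain ⟨t, ht⟩ := exists_eq_mul X hU (g ^ m * s') (by rw [map_mul, map_pow]; exact hm)
  refine ⟨IsLocalization.mk' _ t (⟨g ^ (m + k), m + k, rfl⟩ : Submonoid.powers g), ?_⟩
  have hz : (A1 X).presheaf.map (homOfLE (le_top : (A1 X).basicOpen g ≤ ⊤)).op (z X) =
      algebraMap Γ(A1 X, π X ⁻¹ᵁ U) Γ(A1 X, (A1 X).basicOpen g) (zU X U) :=
    ConcreteCategory.congr_hom ((A1 X).presheaf.map_comp (homOfLE (le_top : π X ⁻¹ᵁ U ≤ ⊤)).op
      (homOfLE ((A1 X).basicOpen_le g)).op) (z X)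
  rw [hz, IsLocalization.mul_mk'_eq_mk'_of_mul, IsLocalization.mk'_eq_iff_eq_mul]
  refine ((congrArg _ ht.symm).trans ?_)
  have he' : s * algebraMap _ _ (g ^ k) = algebraMap _ _ s' := he
  simp only [map_mul, ← he', pow_add]
  ring

theorem z_mul_eq_zero_basic {D : (A1 X).Opens} (hD : D ∈ basisSet X) (s : Γ(A1 X, D))
    (hs : (A1 X).presheaf.map (homOfLE (le_top : D ≤ ⊤)).op (z X) * s = 0) : s = 0 := by
  obtain ⟨U, hU, g, rfl⟩ := hD
  have hW := isAffineOpen_preimage X hU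
  haveI := hW.isLocalization_basicOpen g
  have hz : (A1 X).presheaf.map (homOfLE (le_top : (A1 X).basicOpen g ≤ ⊤)).op (z X) =
      algebraMap Γ(A1 X, π X ⁻¹ᵁ U) Γ(A1 X, (A1 X).basicOpen g) (zU X U) :=
    ConcreteCategory.congr_hom ((A1 X).presheaf.map_comp (homOfLE (le_top : π X ⁻¹ᵁ U ≤ ⊤)).op
      (homOfLE ((A1 X).basicOpen_le g)).op) (z X)
  obtain ⟨s', d, rfl⟩ := IsLocalization.exists_mk'_eq (Submonoid.powers g) s
  rw [hz, IsLocalization.mul_mk'_eq_mk'_of_mul, IsLocalization.mk'_eq_zero_iff] at hs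
  obtain ⟨c, hc⟩ := hs
  rw [IsLocalization.mk'_eq_zero_iff]
  exact ⟨c, zU_mul_eq_zero X hU _ (by rw [mul_left_comm]; exact hc)⟩

/-- multiplication by the coordinate -/
abbrev mz : Coh.structureModule (A1 X) ⟶ Coh.structureModule (A1 X) :=
  Formal.smulModΓ (Coh.structureModule (A1 X)) (z X)

theorem mz_unitToPush : mz X ≫ ClSub.unitToPush (σ X) = 0 := by
  rw [Groth.L16.Rees.smulModΓ_naturality]
  refine (congrArg (ClSub.unitToPush (σ X) ≫ ·) ?_).trans comp_zero
  refine (Groth.L16.Rees.smulModΓ_push (σ X) (Coh.structureModule X) (z X)).trans ?_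
  rw [σ_z]
  refine Scheme.Modules.hom_ext _ _ fun V => ?_
  ext (m : Γ(X, σ X ⁻¹ᵁ V))
  change (X.presheaf.map _).hom (0 : Γ(X, ⊤)) * m = 0
  rw [map_zero]
  exact zero_mul m

/-- `0 → O → O → σ_* O → 0` -/
theorem shortExact_zeroSection :
    (ShortComplex.mk (mz X) (ClSub.unitToPush (σ X)) (mz_unitToPush X)).ShortExact := by
  haveI : Mono (mz X) := by
    let S : ShortComplex (A1 X).Modules := ShortComplex.mk (0 : Coh.structureModule (A1 X) ⟶ _) (mz X) zero_comp
    refine ShortComplex.Exact.mono_g (S := S) ?_ rfl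
    suffices hS : (S.map (Groth.L17.toAbF (A1 X))).Exact from
      (Groth.L21.Mod.exact_iff_stalk S).2 fun x =>
        (TopCat.Sheaf.exact_iff_stalkFunctor_map_exact (S.map (Groth.L17.toAbF (A1 X)))).1 hS x
    exact Groth.L17.exact_of_basis (isBasis_basisSet X) _ fun D hD s hs =>
      ⟨0, by rw [map_zero]; exact (z_mul_eq_zero_basic X hD s hs).symm⟩
  haveI : Epi (ClSub.unitToPush (σ X)) := Groth.L12.VBLift.epi_unitToPush (σ X)
  refine { exact := ?_ }
  let S := ShortComplex.mk (mz X) (ClSub.unitToPush (σ X)) (mz_unitToPush X)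
  suffices hS : (S.map (Groth.L17.toAbF (A1 X))).Exact from
    (Groth.L21.Mod.exact_iff_stalk S).2 fun x =>
      (TopCat.Sheaf.exact_iff_stalkFunctor_map_exact (S.map (Groth.L17.toAbF (A1 X)))).1 hS x
  exact Groth.L17.exact_of_basis (isBasis_basisSet X) _ fun D hD s hs => exists_eq_mul_basic X hD s hs

end Groth.Lead.AffLine
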